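import Cfsg.Agent.BH.Defs
import Cfsg.Agent.TO.RedA
import Cfsg.Agent.R2.RkInt.Quasi
import Cfsg.Agent.S0144

/-!
# BH (S4524), box V4: the automorphism `δ` (helper78)
-/

set_option autoImplicit false

namespace Cfsg.Agent.BH.V4

open Cfsg Subgroup

theorem delta_abs {U O : Type} [Group U] [Finite U] [Group O] [Finite O] (ψ : U →* O) {X : Subgroup O}
    (hX : ∀ x ∈ X, ∀ y ∈ X, x * y = y * x) {d : O} {k : ℕ} (hd : d ^ 3 ^ k = 1) (h3 : ¬ 3 ∣ (zpowers d).relIndex X)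
    {C : Subgroup U} (hC : C.map ψ ≤ X) :
    ∃ δ ∈ C, (∃ j : ℕ, orderOf δ = 3 ^ j) ∧ orderOf (ψ δ) ∣ 3 ^ k ∧
      ∀ γ ∈ C, (∃ j : ℕ, γ ^ 3 ^ j = 1) → ψ γ ∈ zpowers (ψ δ) := by
  have hc : ∀ {x : O} {n j : ℕ}, ¬ 3 ∣ n → x ^ 3 ^ j = 1 → x ∈ zpowers (x ^ n) := fun hn hj =>
    mem_zpowers_pow_iff.2 (Nat.Coprime.coprime_dvd_right (orderOf_dvd_of_pow_eq_one hj)
      ((Nat.prime_three.coprime_iff_not_dvd.2 hn).symm.pow_right _))
  have : ((zpowers d).subgroupOf X).Normal := ⟨fun x hx g => by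
    rwa [show g * x = x * g from Subtype.ext (hX g g.2 x x.2), mul_inv_cancel_right]⟩
  obtain ⟨t, ht⟩ := (Subgroup.isCyclic_iff_exists_zpowers_eq_top _).1 (isCyclic_of_le (inf_le_right : C.map ψ ⊓ zpowers d ≤ zpowers d))
  obtain ⟨⟨γ, hγ, rfl⟩, i, hi⟩ : t ∈ C.map ψ ⊓ zpowers d := ht ▸ mem_zpowers t
  have h1 : ψ γ ^ 3 ^ k = 1 := by
    rw [← hi, ← zpow_natCast, ← zpow_mul, mul_comm, zpow_mul, zpow_natCast, hd, one_zpow]
  obtain ⟨j, m, hm, hj⟩ := Nat.exists_eq_pow_mul_and_not_dvd (orderOf_pos γ).ne' 3 (by norm_num)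
  refine ⟨γ ^ m, C.pow_mem hγ m, ⟨j, ?_⟩, orderOf_dvd_of_pow_eq_one ?_, ?_⟩
  · rw [orderOf_pow_of_dvd (by rintro rfl; exact hm (dvd_zero _)) (hj ▸ dvd_mul_left _ _), hj,
      Nat.mul_div_cancel _ (Nat.pos_of_ne_zero (by rintro rfl; exact hm (dvd_zero _)))]
  · rw [map_pow, ← pow_mul, mul_comm, pow_mul, h1, one_pow]
  · rintro y hy ⟨l, hl⟩
    have h2 : ψ y ^ 3 ^ l = 1 := by rw [← map_pow, hl, map_one]
    have h4 : ψ y ∈ zpowers d :=
      zpowers_le.2 (show ψ y ^ (zpowers d).relIndex X ∈ zpowers d from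
        ((zpowers d).subgroupOf X).pow_index_mem ⟨ψ y, hC ⟨y, hy, rfl⟩⟩) (hc h3 h2)
    rw [map_pow]
    exact zpowers_le.2 (hc hm h1) (ht ▸ (⟨⟨y, hy, rfl⟩, h4⟩ : ψ y ∈ C.map ψ ⊓ zpowers d))

set_option linter.unusedVariables false in
theorem delta {K S : Type} [Group K] [Finite K] [Group S] {σ : K →* S} (qs : IsQuasisimple K) (surj : Function.Surjective σ)
    (ker : σ.ker = Subgroup.center K) (hO : OutC S) {A : Subgroup (MulAut K)} (hI : Inn K ≤ A) {a : ℕ}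
    (ha : 2 ^ a ∣ (Subgroup.center K).index) : ∃ δ ∈ A, (∃ j : ℕ, orderOf δ = 3 ^ j) ∧
      (∀ α ∈ A, α * δ * α⁻¹ ∈ Subgroup.zpowers δ ⊔ Inn K) ∧
      (∀ γ ∈ ⁅A, A⁆, ∃ m : ℕ, ¬ 3 ∣ m ∧ γ ^ m ∈ Subgroup.zpowers δ ⊔ Inn K) ∧
      (Inn K).relIndex (Subgroup.zpowers δ) * 2 ^ a < (Subgroup.center K).index := by
  have : Finite S := Finite.of_surjective σ surj
  have hz : ∀ α : MulAut K, ∀ g ∈ σ.ker, α g ∈ σ.ker := fun α g hg => by
    rw [ker] at hg ⊢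
    exact characteristic_iff_le_comap.1 inferInstance α hg
  choose φ hφ using fun α : MulAut K => TO.exists_ind surj (hz α) (hz α⁻¹)
  let Φ : MulAut K →* MulAut S := MonoidHom.mk' φ fun α β => MulEquiv.ext fun x => by
    obtain ⟨g, rfl⟩ := surj x
    rw [← hφ, MulAut.mul_apply, MulAut.mul_apply, ← hφ, ← hφ]
  let π := QuotientGroup.mk' (Inn S)
  have hk : (π.comp Φ).ker = Inn K := by
    ext α
    rw [MonoidHom.mem_ker, MonoidHom.comp_apply, QuotientGroup.mk'_apply, QuotientGroup.eq_one_iff]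
    constructor
    · rintro ⟨x, hx⟩
      obtain ⟨s, rfl⟩ := surj x
      refine ⟨s, (R2.RkInt.eq_of_perfect qs.1 _ _ fun g => ?_).symm⟩
      rw [← ker, MonoidHom.mem_ker, map_mul, map_inv, hφ α, inv_mul_eq_one, show φ α = _ from hx.symm]
      simp
    · rintro ⟨s, rfl⟩
      refine ⟨σ s, MulEquiv.ext fun x => ?_⟩
      obtain ⟨g, rfl⟩ := surj x
      exact Eq.trans (by simp) (hφ _ g)
  obtain ⟨h1, d, hd, k, h2, h3, h4⟩ := hO
  have hπ : π.ker = Inn S := QuotientGroup.ker_mk' _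
  obtain ⟨δ, hδ, ⟨j, hj⟩, h5, h6⟩ := delta_abs (π.comp Φ) (X := (commutator (MulAut S)).map π) (d := π d) (k := k)
    (C := ⁅A, A⁆) (by
      rintro _ ⟨x, hx, rfl⟩ _ ⟨y, hy, rfl⟩
      rw [← commutatorElement_eq_one_iff_mul_comm, ← map_commutatorElement]
      exact (QuotientGroup.eq_one_iff _).2 (h1 (commutator_mem_commutator hx hy)))
    (by rw [← map_pow]; exact (QuotientGroup.eq_one_iff _).2 h2)
    (by
      rwa [← hπ, ← comap_map_eq, relIndex_comap, Subgroup.map_sup, (map_eq_bot_iff π.ker).2 le_rfl, sup_bot_eq,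
        MonoidHom.map_zpowers] at h4)
    (by
      rw [← map_map, map_commutator A]
      exact map_mono (commutator_mono le_top le_top))
  have h7 : ∀ γ ∈ ⁅A, A⁆, (∃ j : ℕ, γ ^ 3 ^ j = 1) → γ ∈ zpowers δ ⊔ Inn K := fun γ h h' => by
    rw [← hk, ← comap_map_eq, MonoidHom.map_zpowers]
    exact h6 γ h h'
  refine ⟨δ, commutator_le_self A hδ, ⟨j, hj⟩, fun α hα => h7 _ ?_ ⟨j, by rw [conj_pow, ← hj, pow_orderOf_eq_one]; group⟩,
    fun γ hγ => ?_, ?_⟩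
  · rw [← map_subtype_commutator] at hδ ⊢
    obtain ⟨x, hx, rfl⟩ := hδ
    exact ⟨_, (inferInstance : (commutator A).Normal).conj_mem x hx ⟨α, hα⟩, rfl⟩
  · obtain ⟨i, m, hm, hi⟩ := Nat.exists_eq_pow_mul_and_not_dvd (orderOf_pos γ).ne' 3 (by norm_num)
    exact ⟨m, hm, h7 _ (pow_mem hγ m) ⟨i, by rw [← pow_mul, mul_comm, ← hi, pow_orderOf_eq_one]⟩⟩
  · rw [← hk, relIndex_ker, MonoidHom.map_zpowers, Nat.card_zpowers]
    obtain ⟨i, hi, h8⟩ := (Nat.dvd_prime_pow Nat.prime_three).1 h5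
    have h9 : (center K).index = Nat.card S := by
      rw [← ker, index_ker, MonoidHom.range_eq_top.2 surj, card_top]
    rw [h8]
    refine lt_of_le_of_ne (Nat.le_of_dvd (Nat.pos_of_ne_zero index_ne_zero_of_finite) (Nat.Coprime.mul_dvd_of_dvd_of_dvd
      (Nat.Coprime.pow _ _ (by norm_num)) (h9 ▸ (pow_dvd_pow 3 hi).trans h3) ha)) fun h => ?_
    have := qs.1
    have := qs.2
    exact Group.IsPerfect.not_isSolvable (K ⧸ center K) (S0144.result 3 2 i a Nat.prime_three Nat.prime_two h.symm)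

end Cfsg.Agent.BH.V4
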