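import Cfsg.Agent.BH.V4.Star
import Cfsg.Agent.BH.V4.Delta
import Cfsg.Agent.BH.V4.Grp
import Cfsg.Agent.BH.V4.Act

/-!
# BH (S4524), box V4 (helper97)
-/

set_option autoImplicit false
set_option linter.unusedSectionVars false

namespace Cfsg.Agent.BH

open Cfsg Cfsg.Agent.TO Cfsg.Agent.TO.Q8 Cfsg.Agent.Blocks.Basic Cfsg.Agent.H650 Cfsg.Agent.H651 V4
open scoped commutatorElement

/-- **[V4]** -/
theorem boxV4 {M : Ideal AlgInt} (CNT : BoxCNT 2 M) : BoxV4 M := by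
  intro K _ _ S _ σ b Q θ H ⟨R, _, hR, hRt⟩ hO A A₀ hA
  refine or_iff_not_imp_left.2 fun hc => ?_
  simp only [Cen, not_forall] at hc
  obtain ⟨α, hα, hp, u, hu, hne⟩ := hc
  have h := H.can
  have hI : Inn K ≤ A := hA.inn.trans hA.le
  have nz : ∀ {γ : MulAut K} (hγ : γ ∈ A ⊓ LA Q θ), Nz (ri Q θ).range (rs Q θ ⟨γ, hγ.2⟩) := fun {γ} hγ =>
    ⟨norm_ri _, fun z hz => Subtype.ext (hA.cz γ hγ z ⟨z.2, mem_ce.2 fun t ht =>
      mul_inv_eq_iff_eq_mul.1 (congrArg Subtype.val (hz _ ⟨⟨t, ht⟩, rfl⟩))⟩)⟩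
  obtain ⟨L, v, g1, g2, g3, g4, g5, g6, g7⟩ := grp (fun x y => Subtype.ext (h.comm x x.2 y y.2)) h.pg (ndvd_ri h)
    (R := R.subgroupOf Q) hR (by
      rintro _ ⟨t, rfl⟩ r hr
      exact Subtype.ext (hRt t t.2 r hr)) (nz hα)
    fun e => hne (congrArg (fun f : MulAut Q => ((f ⟨u, hu⟩ : Q) : K)) e)
  have i1 : ∀ (l : L) {γ : MulAut K}, γ ∈ A ⊓ LA Q θ → ∀ w ∈ Q, ext0 Q l (γ w) = ext0 Q l w := fun l γ hγ =>
    ext0_inv (γ := ⟨γ, hγ.2⟩) ((g6 _ (nz hγ)).1 l l.2)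
  have i2 : ∀ (l : L), ∀ t ∈ In Q θ, ∀ w ∈ Q, ext0 Q l (t * w * t⁻¹) = ext0 Q l w := fun l t ht =>
    i1 l (γ := MulAut.conj t) ⟨hI ⟨t, rfl⟩, ht⟩
  have i3 := fun l : L => RZ.SA.stable h (i2 l)
  have i4 : ∀ a ∈ A, ∃ γ ∈ A ⊓ LA Q θ, γ v = v ∧ ∀ f ∈ Fn b, f ∘ a = f ∘ γ := fun a ha => by
    obtain ⟨g, hg⟩ := h.frat (hA.stab ha)
    have h1 : MulAut.conj g * a ∈ A ⊓ LA Q θ := ⟨mul_mem (hI ⟨g, rfl⟩) ha, hg⟩
    obtain ⟨_, ⟨t, rfl⟩, h2⟩ := (g6 _ (nz h1)).2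
    exact ⟨MulAut.conj (t : K) * (MulAut.conj g * a), mul_mem ⟨hI ⟨_, rfl⟩, t.2⟩ h1, congrArg Subtype.val h2,
      fun f hf => by rw [comp_mul, comp_mul, comp_conj (fn_irr hf), comp_conj (fn_irr hf)]⟩
  have : Finite (Fn b) := (fn_finite b).to_subtype
  have := Fintype.ofFinite (Fn b)
  have := Fintype.ofFinite K
  have : Finite L := Nat.finite_of_card_ne_zero fun e => Nat.card_pos.ne' (g1.trans (by rw [e]))
  have := Fintype.ofFinite L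
  rw [Nat.card_eq_fintype_card (α := L)] at g1
  obtain ⟨z, z0, s1, s2, zA, zL⟩ := data h v.2 (fun e => g3 (Subtype.ext e)) (congrArg Subtype.val g4) fun t ht e =>
    mem_ce.2 fun d hd => (mul_inv_eq_iff_eq_mul.1 (congrArg (fun f : MulAut Q => ((f ⟨d, hd⟩ : Q) : K))
      (g5 _ ⟨⟨t, ht⟩, rfl⟩ (Subtype.ext e)))).symm
  choose d d0 hd using fun x : Fn b => irr_one_eq_natCast (fn_irr x.2)
  obtain ⟨a, ha⟩ := IsPGroup.iff_card.1 h.pg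
  obtain ⟨k, hk⟩ := id hp
  let _ := actA hA.stab
  let _ := actL h i3
  have eA : ∀ (a : A) (x : Fn b), (a • x).1 = x.1 ∘ (a.1⁻¹ : MulAut K) := fun _ _ => rfl
  have eL : ∀ (l : L) (x : Fn b), (l • x).1 = star 2 M ⟨Q, Can.root M Q θ⟩ (ext0 Q l) x.1 := fun _ _ => rfl
  have st : ∀ x : Fn b, MulAction.stabilizer A x = (FixF x.1).subgroupOf A := fun x => Subgroup.ext fun c => by
    rw [← inv_mem_iff, MulAction.mem_stabilizer_iff, Subtype.ext_iff, eA, Subgroup.coe_inv, inv_inv]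
    exact ⟨fun e => ⟨fun _ => Iff.rfl, congrFun e⟩, fun e => funext e.2⟩
  obtain ⟨W, w1, ⟨a₁, a₂, w2⟩, w3⟩ := four (A := A) (L := L) (X := Fn b) (d := d) (z := z) (α := (⟨α, hα.1⟩ : A)⁻¹) (k := k)
    (fun c l x => Subtype.ext (by
      obtain ⟨γ, k1, -, k2⟩ := i4 _ (inv_mem c.2)
      rw [eA, eL, eL, eA, k2 _ (star_fn h (i3 l) x.2), k2 _ x.2, star_comp h k1.2 (i2 l) (i1 l k1) x.2]))
    (IsPGroup.of_card_dvd_pow ⟨4, by rw [← ha, g1, mul_comm, Nat.card_eq_fintype_card]⟩)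
    (fun l x e => Subtype.ext (MonoidHom.ext fun w => Units.ext (by
      obtain ⟨_, χ, hχ, rfl⟩ := x
      exact (ext0_of_mem l.1 w.2).symm.trans (RZ.SA.eq_one_of_star h (i3 l) hχ (congrArg Subtype.val e) w.2))))
    (fun x => st x ▸ hA.orb x.1 x.2) d0 z0
    (fun c x => ⟨Nat.cast_injective (R := ℂ) (by rw [← hd, ← hd, eA, Function.comp_apply, map_one]), by
      obtain ⟨γ, k1, k2, k3⟩ := i4 _ (inv_mem c.2)
      exact zA γ k1.2 k2 _ _ (k3 _ x.2)⟩)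
    (fun l x => ⟨Nat.cast_injective (R := ℂ) (by
      rw [← hd, ← hd, eL]
      obtain ⟨_, χ, hχ, rfl⟩ := x
      exact (star_apply_reg (a := ⟨Q, _⟩) h.hM h.hmax (i3 l) hχ nd_one).trans (by rw [ext0_apply_one, one_mul])),
      zL _ (i3 l) (by rw [ext0_of_mem l.1 v.2, g2 l l.2]; rfl) _ _ rfl⟩)
    (by rw [s1, g1]; rfl) (by
      simp only [hd] at s2
      exact_mod_cast s2)
    (by rw [inv_pow, inv_eq_one, ← hk]; exact Subtype.ext (pow_orderOf_eq_one α)) (by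
      refine lt_of_le_of_lt (le_trans ?_ (CNT K b Q θ h α hα.2 hp fun t ht hc w hw e => congrArg Subtype.val
        (g7 _ ⟨⟨t, ht⟩, rfl⟩ (MulEquiv.ext fun y => Subtype.ext (hc y y.2)) ⟨w, hw⟩ (Subtype.ext e)))) ?_
      · exact Set.ncard_le_ncard_of_injOn Subtype.val (fun x hx => ⟨x.2, congrArg Subtype.val hx⟩)
          Subtype.val_injective.injOn ((fn_finite b).subset fun _ h => h.1)
      · rw [← g1]
        exact Set.ncard_lt_ncard (t := (Q : Set K)) ⟨fun _ h => h.1, fun h => hne (h hu).2⟩)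
  obtain ⟨δ, hδ, ⟨j, hj⟩, e1, e2, e3⟩ := delta H.qs H.surj H.ker hO hI (a := a) (by
    refine Nat.Coprime.dvd_of_dvd_mul_left (Nat.Coprime.pow_left a (Nat.prime_two.coprime_iff_not_dvd.2 H.zp)) ?_
    rw [Subgroup.card_mul_index, ← ha]
    exact Q.card_subgroup_dvd_card)
  obtain ⟨⟨x, hx⟩, c, hc⟩ := w3 ⟨δ, hδ⟩ j (Subtype.ext (hj ▸ pow_orderOf_eq_one δ)) fun hW => by
    obtain ⟨m, m1, m2⟩ := e2 _ (Subgroup.commutator_mem_commutator a₁.2 a₂.2)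
    have h1 : Subgroup.zpowers δ ⊔ Inn K ≤ W.map A.subtype := sup_le (Subgroup.zpowers_le.2 ⟨_, hW, rfl⟩) (by
      rintro _ ⟨g, rfl⟩
      exact ⟨⟨_, hI ⟨g, rfl⟩⟩, w1 _ fun y => Subtype.ext (by rw [eA, ← map_inv, comp_conj (fn_irr y.2)]), rfl⟩)
    obtain ⟨y, k1, k2⟩ := h1 m2
    exact m1 (w2 m (by rwa [show y = ⁅a₁, a₂⁆ ^ m from Subtype.ext k2] at k1))
  refine ⟨δ, hA.stab hδ, hA.fixZ δ hδ, ?_, e1, ⟨x.1, x.2, funext ((st x).le hx).2⟩, ⟨c, fun χ hχ => ?_⟩, ha ▸ e3⟩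
  · rw [hj]
    exact fun e => absurd (Nat.prime_two.dvd_of_dvd_pow e) (by norm_num)
  · rw [← hc ⟨χ, hχ⟩, st, Nat.cast_mul, ← hd, ← Subgroup.relIndex_subgroupOf (Subgroup.zpowers_le.2 hδ)]
    congr 3
    exact (Subgroup.map_injective A.subtype_injective (by
      rw [MonoidHom.map_zpowers, Subgroup.subgroupOf_map_subtype, inf_eq_left.2 (Subgroup.zpowers_le.2 hδ)]; rfl))

/-- **[V4]** without hypotheses -/
theorem boxV4' {M : Ideal AlgInt} : BoxV4 M := boxV4 boxCNT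

end Cfsg.Agent.BH
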