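import Cfsg.Agent.BH.V4.Cnt
import Cfsg.Agent.BH.RZ.SA
import Cfsg.Agent.TO.Q8A

/-!
# BH (S4524), box V4: generalized decomposition numbers and the star action (helper97)
-/

set_option autoImplicit false
set_option linter.unusedSectionVars false

namespace Cfsg.Agent.BH.V4

open Cfsg Cfsg.Agent.TO Cfsg.Agent.TO.Q8 Cfsg.Agent.Blocks.Basic Cfsg.Agent.Blocks.Local Cfsg.Agent.H650
open Cfsg.Agent.H649 Cfsg.Agent.H651 Cfsg.Agent.BH.RZ.SA
open scoped ComplexConjugate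

variable {K : Type} [Group K] [Finite K] {M : Ideal AlgInt} {b : Set (IrrCharacter K)} {Q : Subgroup K} {θ : K → ℂ}

theorem inner2 {u : K} [Fintype (Cu u)] (hu : u * u = 1) {f : K → ℂ} (hf : IsIrrCharacter K f)
    (ξ : IrrCharacter (Cu u)) : ∃ m : ℤ, classInner (fun s : Cu u => f (u * (s : K))) (ξ : Cu u → ℂ) = m := by
  obtain ⟨z, hz, hzc⟩ := exists_zH (G := K) (z := u) (H := Cu u) rfl
  obtain ⟨l, hl, hl'⟩ := Blocks.CentralizerSum.exists_central_scalar ξ.2 hzc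
  obtain ⟨n, hn⟩ := Characters.Core.classInner_isNat
    (Characters.Core.isCharacter_comp (Cu u).subtype (irr_isCharacter hf)) (irr_isCharacter ξ.2)
  have h3 : l * l = 1 := by
    have e : z * (z * 1) = 1 := Subtype.ext (by
      simp only [Subgroup.coe_mul, hz, Subgroup.coe_one]
      rw [mul_one, hu])
    have h := hl' (z * 1)
    rw [e, hl'] at h
    refine mul_right_cancel₀ (irr_one_ne_zero ξ.2) ?_
    linear_combination -h
  have h4 : classInner (fun s : Cu u => f (u * (s : K))) (ξ : Cu u → ℂ) = n * l := by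
    rw [← hn, classInner_def, classInner_def, mul_assoc, Finset.sum_mul, ← Equiv.sum_comp (Equiv.mulLeft z)
      (fun g => (f ∘ (Cu u).subtype) g * conj ((ξ : Cu u → ℂ) g) * l)]
    congr 1
    refine Finset.sum_congr rfl fun s _ => ?_
    rw [Equiv.coe_mulLeft, hl', map_mul, show (f ∘ (Cu u).subtype) (z * s) = f (u * (s : K)) by simp [hz]]
    linear_combination (-(f (u * (s : K)) * conj ((ξ : Cu u → ℂ) s))) * hl
  rcases mul_self_eq_one_iff.1 h3 with rfl | rfl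
  · exact ⟨n, by simpa using h4⟩
  · exact ⟨-n, by simpa using h4⟩

theorem dd_int2 {u : K} (hu : u * u = 1) {c : Set (IrrCharacter (Cu u))} {a : ℕ}
    (hc : ∀ ξ ∈ c, (ξ : Cu u → ℂ) 1 = a) {f : K → ℂ} (hf : IsIrrCharacter K f) : ∃ z : ℤ, dd u c f = z * a := by
  classical
  have := Fintype.ofFinite (Cu u)
  have : Finite (IrrCharacter (Cu u)) := Characters.Core.finite_irr
  have := Fintype.ofFinite (IrrCharacter (Cu u))
  choose m h using fun ξ => inner2 hu hf ξ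
  refine ⟨∑ ξ : IrrCharacter (Cu u) with ξ ∈ c, m ξ, ?_⟩
  rw [dd, Blocks.CentralizerSum.blockPart_eq, finsum_mem_eq_sum_filter', Int.cast_sum, Finset.sum_mul]
  exact Finset.sum_congr rfl fun ξ hξ => by rw [h, hc ξ (Finset.mem_filter.1 hξ).2]

theorem sum_fn [Fintype (Fn b)] (F : (K → ℂ) → ℂ) : ∑ᶠ χ ∈ b, F (χ : K → ℂ) = ∑ x : Fn b, F x := by
  rw [← finsum_eq_sum_of_fintype, finsum_set_coe_eq_finsum_mem, Fn, finsum_mem_image Subtype.val_injective.injOn]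

theorem pack [Fintype (Fn b)] (h : Can 2 M b Q θ) {v : K} (hv : v ∈ Q) (v1 : v ≠ 1) (v2 : v * v = 1)
    (hn : ∀ t ∈ In Q θ, t * v * t⁻¹ = v → t ∈ Ce Q) {H : Subgroup K} (hH : H = Cu v) {c : Set (IrrCharacter H)}
    (hci : IsInducedBlock M H c b) (hc : Can 2 M c (Q.subgroupOf H) fun x => θ x) :
    IsNilpotentBlock 2 M c ∧ ∃ (a : ℕ) (z : Fn b → ℤ), 0 < a ∧
      (∀ x : Fn b, blockPart c (fun s : H => x.1 (v * s)) 1 = z x * a) ∧ ∑ x, z x ^ 2 = Nat.card Q ∧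
      ∑ x : Fn b, x.1 1 * z x = 0 ∧ ∀ γ ∈ LA Q θ, γ v = v → ∀ x y : Fn b, y.1 = x.1 ∘ γ → z y = z x := by
  subst hH
  have := h.prime
  have hup : PElt 2 v := Cn.pElt h.pg hv
  have hD : Q ≤ Cu v := h.ab.trans (ce_le_cu hv)
  have h1 : In (Q.subgroupOf (Cu v)) (fun x : Cu v => θ x) ≤ Ce (Q.subgroupOf (Cu v)) := fun t ht =>
    mem_ce.2 fun d hd => Subtype.ext
      (mem_ce.1 (hn t (in_cu_le h hv ht) (by rw [mem_cu.1 t.2, mul_inv_cancel_right])) d hd)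
  have hdeg := fun χ hχ ψ hψ => hc.nil h1 (χ := χ) (ψ := ψ) hχ hψ
  have hcard : c.ncard = Nat.card Q :=
    (card_of_deg hc hdeg).trans (Nat.card_congr (Subgroup.subgroupOfEquivOfLe hD).toEquiv)
  obtain ⟨ξ₀, hξ₀⟩ := isPBlock_nonempty hci.1
  obtain ⟨a, ha, ea⟩ := irr_one_eq_natCast ξ₀.2
  have hca : ∀ ξ ∈ c, (ξ : Cu v → ℂ) 1 = a := fun ξ hξ => (hdeg _ (fn_mk.2 hξ) _ (fn_mk.2 hξ₀)).trans ea
  choose z hz using fun x : Fn b => dd_int2 v2 hca (fn_irr x.2)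
  have ha' : (a : ℂ) ≠ 0 := Nat.cast_ne_zero.2 ha.ne'
  have s1 := dd_sum_sq h.hM hup hci
  have s2 := dd_sum_deg h.hM h.hb hup v1 hci.1
  have s3 : ∑ᶠ ξ ∈ c, (ξ : Cu v → ℂ) 1 * conj ((ξ : Cu v → ℂ) 1) = Nat.card Q * (a * a) := by
    have : Finite (IrrCharacter (Cu v)) := Characters.Core.finite_irr
    rw [finsum_mem_congr rfl (g := fun _ => (a : ℂ) * a) fun ξ hξ => by rw [hca ξ hξ, map_natCast],
      finsum_mem_eq_finite_toFinset_sum _ (Set.toFinite c), Finset.sum_const,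
      ← Set.ncard_eq_toFinset_card _ (Set.toFinite c), hcard, nsmul_eq_mul]
  rw [s3, sum_fn fun f => dd v c f * conj (dd v c f)] at s1
  rw [sum_fn fun f => f 1 * dd v c f] at s2
  simp only [hz, map_mul, map_natCast, map_intCast] at s1 s2
  refine ⟨hc.nilp h1, a, z, ha, hz, ?_, ?_, fun γ hγ hγv x y hy => ?_⟩
  · have h2 : (∑ x, (z x : ℂ) ^ 2) * (a * a) = Nat.card Q * (a * a) := by
      rw [← s1, Finset.sum_mul]
      exact Finset.sum_congr rfl fun x _ => by ring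
    exact_mod_cast mul_right_cancel₀ (mul_ne_zero ha' ha') h2
  · refine (mul_eq_zero.1 ?_).resolve_right ha'
    rw [← s2, Finset.sum_mul]
    exact Finset.sum_congr rfl fun x _ => mul_assoc _ _ _
  · have h2 := dd_comp hc.le_Stab hγ hγv x.1
    rw [← hy, hz, hz, mul_left_inj' ha'] at h2
    exact_mod_cast h2

/-- the generalized decomposition numbers at `v` -/
theorem data [Fintype (Fn b)] (h : Can 2 M b Q θ) {v : K} (hv : v ∈ Q) (v1 : v ≠ 1) (v2 : v * v = 1)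
    (hn : ∀ t ∈ In Q θ, t * v * t⁻¹ = v → t ∈ Ce Q) : ∃ z : Fn b → ℤ, (∀ x, z x ≠ 0) ∧ ∑ x, z x ^ 2 = Nat.card Q ∧
      ∑ x : Fn b, x.1 1 * z x = 0 ∧ (∀ γ ∈ LA Q θ, γ v = v → ∀ x y : Fn b, y.1 = x.1 ∘ γ → z y = z x) ∧
      ∀ η, IsStable 2 M ⟨Q, Can.root M Q θ⟩ η → η v = 1 → ∀ x y : Fn b,
        y.1 = star 2 M ⟨Q, Can.root M Q θ⟩ η x.1 → z y = z x := by
  have := h.prime
  have := Fintype.ofFinite K
  have hQ := Subgroup.zpowers_le.2 hv
  obtain ⟨f, ⟨f1, f2⟩, -⟩ := S4655.result 2 M h.hM Q _ _ h.hmax.1.1 hQ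
  have f3 := (S4658.result 2 M h.hM Q _ _ f h.hmax.1.1 ⟨h.pg.to_le hQ, f1⟩ f2 b h.hb).1 h.hmax.1
  obtain ⟨n, a, z, ha, hz, s1, s2, s3⟩ := pack h hv v1 v2 hn (Cz_eq v)
    ((isBrauerPairOf_iff_isInducedBlock h.hM h.hb f3.1.1 f1).1 f3) (loc_of_le h f2)
  refine ⟨z, fun x h0 => ?_, s1, s2, s3, fun η hη h1 x y hy => ?_⟩
  · obtain ⟨χ, hχ, e⟩ := x.2
    obtain ⟨s, k1, k2⟩ := exists_blockPart_ne_zero_of_major h.hM h.hmax hχ (h.ab hv) f2
    refine k2 (part_zero h.hM n ?_ k1)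
    rw [e]
    exact (hz x).trans (by rw [h0, Int.cast_zero, zero_mul])
  · have h2 := blockPart_secFun_starW h.hM (isWInv_etaW hη) (irr_isClassFunction (fn_irr x.2)) (Cn.pElt h.pg hv) f1
      (s := 1) nd_one
    rw [etaW_eq hη (x := 1) rfl (by rw [conjIdx_one]; exact f2), one_mul, inv_one, mul_one, h1, one_mul,
      show starW 2 M (etaW 2 M ⟨Q, Can.root M Q θ⟩ η) x.1 = y.1 from hy.symm] at h2
    have h3 := (hz y).symm.trans (h2.trans (hz x))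
    rw [mul_left_inj' (Nat.cast_ne_zero.2 ha.ne')] at h3
    exact_mod_cast h3

variable {p : ℕ} [Fact p.Prime]

/-- the star construction commutes with the local automorphisms -/
theorem star_comp (h : Can p M b Q θ) {α : MulAut K} (hα : α ∈ LA Q θ) {η : K → ℂ}
    (h1 : ∀ t ∈ In Q θ, ∀ v ∈ Q, η (t * v * t⁻¹) = η v) (h2 : ∀ v ∈ Q, η (α v) = η v) {f : K → ℂ} (hf : f ∈ Fn b) :
    star p M ⟨Q, Can.root M Q θ⟩ η f ∘ α = star p M ⟨Q, Can.root M Q θ⟩ η (f ∘ α) := by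
  obtain ⟨χ, hχ, rfl⟩ := hf
  have e : Emb α.toMonoidHom := ⟨α.injective, by
    rw [MonoidHom.range_eq_top_of_surjective α.toMonoidHom α.surjective]
    infer_instance⟩
  have h3 : ∀ w : K, e.au w = MulAut.conj (α.symm w) := fun w => by
    rw [← e.au_self]
    exact congrArg e.au (α.apply_symm_apply w).symm
  have d : Dt p M e b Q θ b Q θ :=
    ⟨h, h, (Cn.map_eq_of_iff hα.1).symm, OV.of_eq hα.2, fun w => h3 w ▸ conj_mem_stab b _⟩
  exact funext (d.res h2 (fun w hw v hv => by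
    rw [h3] at hw ⊢
    exact h1 _ hw v hv) hχ)

/-- the action of automorphisms on the block -/
@[reducible]
def actA {A : Subgroup (MulAut K)} (hA : A ≤ Stab b) : MulAction A (Fn b) where
  smul a x := ⟨x.1 ∘ (a.1⁻¹ : MulAut K), comp_mem (hA (inv_mem a.2)) x.2⟩
  one_smul _ := rfl
  mul_smul _ _ _ := rfl

variable {L : Subgroup (Q →* ℂˣ)}

theorem ext0_inv {l : Q →* ℂˣ} {γ : LA Q θ} (hl : ∀ x, l (rs Q θ γ x) = l x) : ∀ v ∈ Q, ext0 Q l (γ.1 v) = ext0 Q l v :=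
  fun v hv => by
    rw [ext0_of_mem l hv, ext0_of_mem l ((γ.2.1 v).2 hv), ← hl ⟨v, hv⟩]
    rfl

theorem star_fn (h : Can p M b Q θ) {l : Q →* ℂˣ} (hl : IsStable p M ⟨Q, Can.root M Q θ⟩ (ext0 Q l)) {f : K → ℂ}
    (hf : f ∈ Fn b) : star p M ⟨Q, Can.root M Q θ⟩ (ext0 Q l) f ∈ Fn b := by
  obtain ⟨χ, hχ, rfl⟩ := hf
  exact ⟨_, star_mem (a := ⟨Q, _⟩) h.hM h.hmax hχ (irr_star h hl l (fun x => ext0_of_mem l x.2) hχ), rfl⟩

/-- the action of invariant linear characters on the block -/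
@[reducible]
noncomputable def actL (h : Can p M b Q θ) (hL : ∀ l : L, IsStable p M ⟨Q, Can.root M Q θ⟩ (ext0 Q l)) :
    MulAction L (Fn b) where
  smul l x := ⟨_, star_fn h (hL l) x.2⟩
  one_smul := by
    rintro ⟨_, χ, hχ, rfl⟩
    exact Subtype.ext ((star_congr (a := ⟨Q, _⟩) h.hM h.hmax (hL 1) (isStable_const 1)
      (fun g hg => ext0_one hg) hχ).trans (star_one (a := ⟨Q, _⟩) h.hM h.hmax hχ))
  mul_smul l l' x := Subtype.ext (Eq.trans (congrArg (star p M ⟨Q, Can.root M Q θ⟩ · x.1) (ext0_mul l.1 l'.1))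
    (star_star h.hM (hL l) (hL l') (irr_isClassFunction (fn_irr x.2))).symm)

end Cfsg.Agent.BH.V4
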