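import Cfsg.Agent.BH.V4.Pair
import Cfsg.Agent.TO.KTop
import Cfsg.Agent.TO.Q8H
import Cfsg.Agent.TO.InvBase
import Cfsg.Agent.H646.UCov
import Cfsg.Agent.S4689

/-!
# BH (S4524), box CNT: the number of members fixed by a `p`-automorphism (helper97)
-/

set_option autoImplicit false
set_option linter.unusedSectionVars false

namespace Cfsg.Agent.BH.V4

open Cfsg Cfsg.Agent.TO Cfsg.Agent.H649 Cfsg.Agent.H651 Cfsg.Agent.H650 Cfsg.Agent.Blocks.Local
open Cfsg.Agent.Characters.Core Cfsg.Agent.CharactersDeep.AbelianQuotient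

variable {p : ℕ} [Fact p.Prime] {M : Ideal AlgInt} {G : Type} [Group G] [Finite G] {B : Set (IrrCharacter G)}

theorem nd_one : ¬ p ∣ orderOf (1 : G) := by
  rw [orderOf_one, Nat.dvd_one]
  exact (Fact.out : p.Prime).ne_one

/-- the part in a nilpotent block is determined by its value at `1` -/
theorem part_zero (hM : IsPModular p M) (hB : IsNilpotentBlock p M B) {F : G → ℂ} (h : blockPart B F 1 = 0) {s : G}
    (hs : ¬ p ∣ orderOf s) : blockPart B F s = 0 := by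
  classical
  have := Fintype.ofFinite G
  have : Finite (IrrCharacter G) := finite_irr
  have := Fintype.ofFinite (IrrCharacter G)
  obtain ⟨-, χ₀, -, h1⟩ := S4689.result p M hM B hB
  choose! d hd using h1
  have h2 : ∀ s : G, ¬ p ∣ orderOf s →
      blockPart B F s = (∑ ξ : IrrCharacter G with ξ ∈ B, classInner F ξ.1 * d ξ) * χ₀.1 s := fun s hs => by
    rw [blockPart_eq_sum_filter, Finset.sum_apply, Finset.sum_mul]
    refine Finset.sum_congr rfl fun ξ hξ => ?_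
    have h3 := hd ξ (Finset.mem_filter.1 hξ).2 s
    rw [pRegularPart, pRegularPart, if_pos (show IsPRegular p s from hs), if_pos (show IsPRegular p s from hs)] at h3
    rw [Pi.smul_apply, smul_eq_mul, h3, mul_assoc]
  rw [h2 1 nd_one, mul_eq_zero, or_iff_left (isIrr_apply_one_ne_zero χ₀.2)] at h
  rw [h2 s hs, h, zero_mul]

theorem chiE_sum {ι : Type} [Fintype ι] (a : BrauerPairIdx G) (c : ι → ℂ) (Ψ : ι → G → ℂ) (g : G) :
    chiE a (∑ i, c i • Ψ i) g = ∑ i, c i * chiE a (Ψ i) g := by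
  have := Fintype.ofFinite G
  simp only [chiE_eq_sum, Finset.sum_apply, Pi.smul_apply, smul_eq_mul, Finset.mul_sum]
  rw [Finset.sum_comm]
  exact Finset.sum_congr rfl fun _ _ => Finset.sum_congr rfl fun _ _ => mul_left_comm _ _ _

/-- a combination of members is determined on a section with nilpotent blocks by the values at the `p`-element -/
theorem sep (hM : IsPModular p M) (hB : IsPBlock M B) {ι : Type} [Fintype ι] (c : ι → ℂ) {Ψ : ι → IrrCharacter G}
    (hΨ : ∀ i, Ψ i ∈ B) {g : G} (h : ∀ f : Set (IrrCharacter (Cz (pp p g))),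
      IsBrauerPairOf p M B (Subgroup.zpowers (pp p g)) f → IsNilpotentBlock p M f ∧
        chiE ⟨Subgroup.zpowers (pp p g), f⟩ (∑ i, c i • (Ψ i).1) (pp p g) = 0) : (∑ i, c i • (Ψ i).1) g = 0 := by
  have := isPrime_of_isPModular hM
  obtain ⟨hu, s, hs, e⟩ := exists_pp_mul (p := p) g
  have hF : IsClassFunction G (∑ i, c i • (Ψ i).1) :=
    Inv.V_class (b := B) (Submodule.sum_mem _ fun i _ => Submodule.smul_mem _ _ (Inv.mem_V (hΨ i)))
  rw [← e]
  show secFun (pp p g) (∑ i, c i • (Ψ i).1) s = 0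
  rw [← wSum_one M (isClassFunction_secFun hF _), wSum_eq_finsum]
  refine finsum_mem_eq_zero_of_forall_eq_zero fun f hf => ?_
  rw [one_mul]
  by_cases hn : IsBrauerPairOf p M B (Subgroup.zpowers (pp p g)) f
  · refine part_zero hM (h f hn).1 (((chiE_zpowers _ f hF 1).symm.trans ?_).trans (h f hn).2) hs
    rw [Subgroup.coe_one, mul_one]
  · refine (chiE_zpowers _ f hF s).symm.trans ?_
    rw [chiE_sum]
    refine Finset.sum_eq_zero fun i _ => ?_
    rw [chiE_zpowers _ f (isIrr_isClassFunction (Ψ i).2) s]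
    exact mul_eq_zero_of_right _ (blockPart_secFun_eq_zero hM hB (hΨ i) hu hf hn hs)

/-- representatives for the twisted conjugation -/
theorem reps {A : Subgroup G} (hA : ∀ r ∈ A, ∀ s ∈ A, r * s = s * r) {α : MulAut G} (hα : ∀ r ∈ A, α r ∈ A) :
    ∃ S : Set G, S ⊆ A ∧ S.ncard ≤ {u | u ∈ A ∧ α u = u}.ncard ∧ ∀ u ∈ A, ∃ q ∈ A, u * (q * (α q)⁻¹) ∈ S := by
  let κ : A →* A := MonoidHom.mk' (fun q => ⟨q * (α q)⁻¹, mul_mem q.2 (inv_mem (hα q q.2))⟩) fun q r => Subtype.ext (by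
    show (q : G) * r * (α (q * r))⁻¹ = q * (α q)⁻¹ * (r * (α r)⁻¹)
    rw [map_mul, mul_inv_rev, mul_assoc (q : G) (α q)⁻¹, hA _ (inv_mem (hα q q.2)) _ (mul_mem r.2 (inv_mem (hα r r.2)))]
    group)
  refine ⟨Set.range fun j : A ⧸ κ.range => (j.out : G), ?_, ?_, fun u hu => ?_⟩
  · rintro _ ⟨j, rfl⟩
    exact j.out.2
  · have h1 : κ.range.index = Nat.card κ.ker := Nat.eq_of_mul_eq_mul_left (Nat.card_pos (α := κ.range)) (by
      rw [Subgroup.card_mul_index, ← Subgroup.index_ker, mul_comm, Subgroup.card_mul_index])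
    rw [← Set.image_univ]
    refine (Set.ncard_image_le (Set.toFinite _)).trans (le_of_eq ?_)
    rw [Set.ncard_univ, ← Subgroup.index_eq_card, h1, ← Nat.card_coe_set_eq]
    exact Nat.card_congr ⟨fun q => ⟨q.1, q.1.2, (mul_inv_eq_one.1 (congrArg Subtype.val q.2)).symm⟩,
      fun u => ⟨⟨u.1, u.2.1⟩, Subtype.ext (mul_inv_eq_one.2 u.2.2.symm)⟩, fun _ => rfl, fun _ => rfl⟩
  · obtain ⟨⟨_, q, rfl⟩, h⟩ := QuotientGroup.mk_out_eq_mul κ.range ⟨u, hu⟩
    exact ⟨q, q.2, _, congrArg Subtype.val h⟩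

variable {N : Subgroup G} [N.Normal] {x : G}

/-- extensions of different characters are independent on a coset -/
theorem indep (hc : ∀ g h : G, g * h * g⁻¹ * h⁻¹ ∈ N) {ι : Type} [Fintype ι] {c : ι → ℂ} {Ψ : ι → IrrCharacter G}
    (h1 : ∀ i, IsIrrCharacter N fun n => (Ψ i).1 n) (h2 : ∀ i j, (∀ n : N, (Ψ i).1 n = (Ψ j).1 n) → i = j)
    (h : ∀ g, x⁻¹ * g ∈ N → (∑ i, c i • (Ψ i).1) g = 0) (j : ι) : c j = 0 := by
  classical
  have := Fintype.ofFinite G
  obtain ⟨Λ, h3, -, -, h5⟩ := exists_linear_dual N hc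
  have h6 : ∑ l ∈ Λ, ∑ i, ((l x⁻¹ : ℂ) * c i) • ((fun g => (l g : ℂ)) * (Ψ i).1) = 0 := funext fun g => by
    have h7 : (∑ l ∈ Λ, (l (x⁻¹ * g) : ℂ)) * (∑ i, c i • (Ψ i).1) g = 0 := by
      by_cases hg : x⁻¹ * g ∈ N
      · rw [h g hg, mul_zero]
      · rw [h5 _ hg, zero_mul]
    rw [Pi.zero_apply, ← h7]
    simp only [Finset.sum_apply, Pi.smul_apply, Pi.mul_apply, smul_eq_mul, Finset.sum_mul, Finset.mul_sum, map_mul,
      Units.val_mul]
    rw [Finset.sum_comm]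
    exact Finset.sum_congr rfl fun _ _ => Finset.sum_congr rfl fun _ _ => by ring
  have h7 := congrArg (classInner · (Ψ j).1) h6
  simp only [classInner_sum_left, classInner_smul_left, classInner_zero_left] at h7
  have h8 : ∀ l ∈ Λ, ∀ i, (fun g => (l g : ℂ)) * (Ψ i).1 = (Ψ j).1 → i = j := fun l hl i e =>
    h2 i j fun n => by simpa [(h3 l).1 hl n n.2] using congrFun e n
  rw [Finset.sum_eq_single 1, Finset.sum_eq_single j] at h7
  · rwa [show (fun g => ((1 : G →* ℂˣ) g : ℂ)) * (Ψ j).1 = (Ψ j).1 from one_mul _, classInner_irr_self (Ψ j).2, mul_one,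
      MonoidHom.one_apply, Units.val_one, one_mul] at h7
  · exact fun i _ hi => mul_eq_zero_of_right _ (classInner_irr_ne (isIrr_linear_mul _ (Ψ i).2) (Ψ j).2
      fun e => hi (h8 1 ((h3 1).2 fun _ _ => rfl) i e))
  · exact fun h => absurd (Finset.mem_univ j) h
  · refine fun l hl hl1 => Finset.sum_eq_zero fun i _ => mul_eq_zero_of_right _
      (classInner_irr_ne (isIrr_linear_mul _ (Ψ i).2) (Ψ j).2 fun e => hl1 (MonoidHom.ext fun g => Units.ext ?_))
    obtain rfl := h8 l hl i e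
    exact ODD.Red.gall_inj N (Ψ i).2 (h1 i) (η := fun g => (l g : ℂ)) (η' := fun _ => 1)
      (fun n g => by simp [(h3 l).1 hl n n.2]) (fun _ _ => rfl) (fun g => by simpa [mul_comm] using congrFun e g) g
  · exact fun h => absurd ((h3 1).2 fun _ _ => rfl) h

variable {b : Set (IrrCharacter N)} {Q : Subgroup N} {θ : N → ℂ}

theorem core (hC : Can p M b Q θ) (hN : ∃ k : ℕ, N.index = p ^ k) (hx : MulAut.conjNormal x ∈ LA Q θ)
    (hp : PElt p (MulAut.conjNormal x : MulAut N)) (H : HC Q θ (MulAut.conjNormal x)) (hg : N ⊔ Subgroup.zpowers x = ⊤) :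
    {χ ∈ Fn b | χ ∘ (MulAut.conjNormal x : MulAut N) = χ}.ncard ≤
      {u : N | u ∈ Q ∧ (MulAut.conjNormal x : MulAut N) u = u}.ncard := by
  classical
  have := Fintype.ofFinite G
  have := Fintype.ofFinite N
  have := hC.prime
  have hM := hC.hM
  have hcy := K.cyc_of hg
  have hc : ∀ g h : G, g * h * g⁻¹ * h⁻¹ ∈ N := fun g h => (QuotientGroup.eq_one_iff _).1 (by
    simp [mul_comm' (g : G ⧸ N) (h : G ⧸ N)])
  have top : ∀ W : Subgroup (MulAut N), MulAut.conjNormal x ∈ W → (∀ n : N, MulAut.conj n ∈ W) →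
      ∀ g : G, MulAut.conjNormal g ∈ W := fun W h1 h2 g =>
    (show ⊤ ≤ W.comap MulAut.conjNormal from hg ▸ sup_le (fun n hn => Subgroup.mem_comap.2
      ((MulAut.conjNormal_val (h := ⟨n, hn⟩)).symm ▸ h2 ⟨n, hn⟩)) (Subgroup.zpowers_le.2 h1))
      (Subgroup.mem_top g)
  have hU := H646.UCov.ucov_of_index hM N hN
  obtain ⟨B, hB, hu, hBc⟩ := H646.UCov.exists_block_of_stable N hM hU hC.hb fun g =>
    (H646.UCov.stabilizesBlock_iff_cj N b g).2 fun ξ hξ => Cn.coe_mem_Fn.1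
      (Q8.comp_mem (top _ (hC.le_Stab hx) (Q8.conj_mem_stab b) g⁻¹) (Cn.coe_mem_Fn.2 hξ))
  obtain ⟨P, e, hmax⟩ := H644.exists_maximal hM hB
  obtain ⟨S, S1, S2, S3⟩ : ∃ S : Set G, S ⊆ P ∧ S.ncard ≤ {u : N | u ∈ Q ∧ (MulAut.conjNormal x : MulAut N) u = u}.ncard ∧
      ∀ v ∈ P, v * x⁻¹ ∈ N → ∃ q ∈ P, q * v * q⁻¹ ∈ S := by
    by_cases h0 : ∃ y ∈ P, y * x⁻¹ ∈ N
    · obtain ⟨y, hy, hyx⟩ := h0
      obtain ⟨l1, l2⟩ := low hC hBc hx hp hmax.1 hy hyx
      obtain ⟨S, S1, S2, S3⟩ := reps l1 (α := MulAut.conjNormal y) fun r hr => mul_mem (mul_mem hy hr) (inv_mem hy)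
      refine ⟨(fun w : N => w * y) '' S, ?_, (Set.ncard_image_le (Set.toFinite _)).trans (S2.trans l2), fun v hv hvx => ?_⟩
      · rintro _ ⟨w, hw, rfl⟩
        exact mul_mem (S1 hw) hy
      · have h1 : v * y⁻¹ ∈ N := by simpa [mul_assoc] using mul_mem hvx (inv_mem hyx)
        have h2 : (⟨_, h1⟩ : N) ∈ P.subgroupOf N := mul_mem hv (inv_mem hy)
        obtain ⟨q, hq, h3⟩ := S3 _ h2
        refine ⟨q, hq, _, h3, ?_⟩
        have h4 : v * y⁻¹ * q = q * (v * y⁻¹) := congrArg Subtype.val (l1 _ h2 q hq)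
        show v * y⁻¹ * (q * (y * q * y⁻¹)⁻¹) * y = q * v * (q : G)⁻¹
        rw [← mul_assoc, h4]
        group
    · exact ⟨∅, Set.empty_subset _, by simp, fun v hv hvx => absurd ⟨v, hv, hvx⟩ h0⟩
  refine le_trans ?_ S2
  set ι := {χ ∈ Fn b | χ ∘ (MulAut.conjNormal x : MulAut N) = χ} with hι
  have : Finite ι := ((Q8.fn_finite b).subset fun _ h => h.1).to_subtype
  have := Fintype.ofFinite ι
  have := Fintype.ofFinite S
  have ex : ∀ i : ι, ∃ Ψ : IrrCharacter G, Ψ ∈ B ∧ ∀ n : N, Ψ.1 n = i.1 n := fun i => by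
    obtain ⟨Ψ, k1, k2⟩ := S0886.result N hcy i.1 (Q8.fn_irr i.2.1) fun g n =>
      congrFun (top (Q8.fixF i.1) i.2.2 (Q8.comp_conj (Q8.fn_irr i.2.1)) g) n
    refine ⟨⟨Ψ, k1⟩, ?_, k2⟩
    obtain ⟨ξ, hξ, k3⟩ := i.2.1
    rw [← H646.UCov.lyingOver_underSet N hU hB, hu]
    refine ⟨ξ, hξ, ?_⟩
    rw [show (fun n : N => Ψ n) = ξ.1 from (funext k2).trans k3.symm, classInner_irr_self ξ.2]
    exact one_ne_zero
  choose Ψ Ψ1 Ψ2 using ex
  choose f hf using fun v : S => H644.exists_subpairLE hM hmax.1.1 (Subgroup.zpowers (v : G)) (Subgroup.zpowers_le.2 (S1 v.2))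
  have li : LinearIndependent ℂ fun (i : ι) (v : S) => chiE ⟨Subgroup.zpowers (v : G), f v⟩ (Ψ i).1 v := by
    refine Fintype.linearIndependent_iff.2 fun c h0 => indep (x := x) hc
      (fun i => (funext (Ψ2 i) : (fun n : N => (Ψ i).1 n) = _) ▸ Q8.fn_irr i.2.1)
      (fun i j h => Subtype.ext (funext fun n => (Ψ2 i n).symm.trans ((h n).trans (Ψ2 j n)))) fun g hgx => ?_
    obtain ⟨-, s, hs, es⟩ := exists_pp_mul (p := p) g
    have h1 : pp p g * x⁻¹ ∈ N := by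
      have h2 : (s : G) ∈ N := mem_of_isPRegular N hN (by rwa [IsPRegular, ← orderOf_coe_dvd])
      have h3 := ‹N.Normal›.conj_mem _ (mul_mem hgx (inv_mem h2)) x
      rw [eq_mul_inv_of_mul_eq es]
      simpa [mul_assoc] using h3
    refine sep hM hB c Ψ1 fun f' hf' => ⟨nil hC hN hBc hx hp H hg h1 hf', ?_⟩
    generalize pp p g = u at h1 f' hf'
    obtain ⟨y, hy⟩ := exists_conj_leIdx hM (a := ⟨P, e⟩) hmax hf'
    obtain ⟨q, hq, h2⟩ := S3 (y * u * y⁻¹) (hy.le ⟨u, Subgroup.mem_zpowers u, rfl⟩)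
      (by simpa [mul_assoc] using mul_mem (hc y u) h1)
    have h3 := (leIdx_conjIdx_iff q).2 hy
    rw [conjIdx_self_of_mem hq hmax.1.1.2, conjIdx_conjIdx] at h3
    have h4 : conjIdx (q * y) ⟨Subgroup.zpowers u, f'⟩ = ⟨_, f ⟨_, h2⟩⟩ := by
      have h5 : (conjIdx (q * y) ⟨Subgroup.zpowers u, f'⟩).1 = Subgroup.zpowers (q * (y * u * y⁻¹) * q⁻¹) := by
        rw [conjIdx_fst, MonoidHom.map_zpowers]
        simp [mul_assoc]
      generalize conjIdx (q * y) ⟨Subgroup.zpowers u, f'⟩ = a at h3 h5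
      obtain ⟨R, k⟩ := a
      obtain rfl : R = _ := h5
      rw [H644.subpairLE_unique hM hmax.1.1 _ k _ h3 (hf ⟨_, h2⟩)]
    have h5 := congrFun h0 ⟨_, h2⟩
    simp only [Finset.sum_apply, Pi.smul_apply, smul_eq_mul, Pi.zero_apply] at h5
    rw [chiE_sum, ← h5]
    refine Finset.sum_congr rfl fun i _ => ?_
    rw [← h4, ← chiE_conjIdx (q * y) _ (isIrr_isClassFunction (Ψ i).2)]
    simp [mul_assoc]
  have h9 := li.fintype_card_le_finrank
  rwa [Module.finrank_fintype_fun_eq_card, ← Nat.card_eq_fintype_card, ← Nat.card_eq_fintype_card,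
    Nat.card_coe_set_eq, Nat.card_coe_set_eq] at h9

end Cfsg.Agent.BH.V4

namespace Cfsg.Agent.BH

open Cfsg Cfsg.Agent.TO Cfsg.Agent.H649

/-- **[CNT]** -/
theorem boxCNT {p : ℕ} [Fact p.Prime] {M : Ideal AlgInt} : BoxCNT p M := by
  intro K _ _ b Q θ h α hα hp H
  obtain ⟨G, _, _, i, g, ρ, hi, hn, hg, hx, hρ, rfl⟩ := TO.K.exists_frame α
  set e := MonoidHom.ofInjective hi with he
  have h1 : ∀ k, (MulAut.conjNormal g : MulAut i.range) (e k) = e (ρ g k) := fun k => Subtype.ext (hρ g k).symm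
  have h2 : (MulAut.conjNormal g : MulAut i.range) = MulAut.congr e (ρ g) := MulEquiv.ext fun n => by
    obtain ⟨k, rfl⟩ := e.surjective n
    simp [h1]
  have h3 : ∀ k, e k ∈ Q.map e.toMonoidHom ↔ k ∈ Q := map_mem_map_iff e Q
  have h4 := V4.core (x := g) (h.map e) (hx ▸ hp) ⟨fun n => ?_, fun n => ?_⟩ (by
    rw [h2, PElt, MulEquiv.orderOf_eq]; exact hp) (fun t ht hc u hu hf => ?_) hg
  · refine le_trans (Set.ncard_le_ncard_of_injOn (fun χ => χ ∘ e.symm) (fun χ hχ => And.intro ((Q8.Fr.fn_blkMap e).2 ?_) ?_)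
      (fun χ _ ψ _ h => e.symm.surjective.injective_comp_right h) (((Q8.fn_finite _).subset fun _ h => h.1)))
      (h4.trans (Set.ncard_le_ncard_of_injOn e.symm (fun u hu => ?_) e.symm.injective.injOn (Set.toFinite _)))
    · simpa [Function.comp_def] using hχ.1
    · funext n
      obtain ⟨k, rfl⟩ := e.surjective n
      simpa [h1] using congrFun hχ.2 k
    · obtain ⟨k, rfl⟩ := e.surjective u
      rw [e.symm_apply_apply]
      exact ⟨(h3 k).1 hu.1, e.injective ((h1 k).symm.trans hu.2)⟩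
  · obtain ⟨k, rfl⟩ := e.surjective n
    rw [h1, h3, h3, hα.1]
  · obtain ⟨k, rfl⟩ := e.surjective n
    simp only [h1, e.symm_apply_apply, hα.2]
  · obtain ⟨t, rfl⟩ := e.surjective t
    obtain ⟨u, rfl⟩ := e.surjective u
    rw [← map_inv, ← map_mul, ← map_mul, H t ⟨fun y => ?_, fun y => ?_⟩ (fun v hv => e.injective ?_) u ((h3 u).1 hu)
      (e.injective ((h1 u).symm.trans hf))]
    · rw [← h3, ← h3, ← ht.1 (e y)]
      simp
    · simpa using ht.2 (e y)
    · simpa [← h1] using hc (e v) ((h3 v).2 hv)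

end Cfsg.Agent.BH
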