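import Cfsg.Agent.BH.Defs
import Cfsg.Agent.TO.Can2
import Cfsg.Agent.TO.Q8T

/-!
# BH (S4524), boxes CNT and V4: fixed points of `p`-elements on the defect group (helper97)
-/

set_option autoImplicit false
set_option linter.unusedSectionVars false

namespace Cfsg.Agent.BH.V4

open Cfsg Cfsg.Agent.TO

section abs

variable {Γ : Type*} [Group Γ] [Finite Γ] {p : ℕ} [Fact p.Prime] {E : Subgroup Γ} {a y t : Γ} {k : ℕ}

/-- Glauberman's argument -/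
theorem fix3 {X : Type*} [MulAction Γ X] (hE : ¬ p ∣ Nat.card E) (hn : ∀ e ∈ E, a * e * a⁻¹ ∈ E)
    (ha : a ^ p ^ k = 1) (hy : y ^ p ^ k = 1) (hya : y * a⁻¹ ∈ E) (ht : t ∈ E) {u w : X} (hu : a • u = u)
    (hw : y • w = w) (htu : t • u = w) : ∃ s ∈ E, s • u = w ∧ y * s = s * a := by
  classical
  let S := {s : Γ // s ∈ E ∧ s • u = w}
  have := Fintype.ofFinite S
  have hu' : a⁻¹ • u = u := by rw [inv_smul_eq_iff, hu]
  let f : S → S := fun s => ⟨y * s.1 * a⁻¹, by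
    have e : y * s.1 * a⁻¹ = y * a⁻¹ * (a * s.1 * a⁻¹) := by group
    exact ⟨e ▸ mul_mem hya (hn _ s.2.1), by rw [mul_smul, mul_smul, hu', s.2.2, hw]⟩⟩
  have hf : Function.Injective f := fun s s' h =>
    Subtype.ext (mul_left_cancel (mul_right_cancel (congrArg Subtype.val h)))
  let φ : Equiv.Perm S := Equiv.ofBijective f (Finite.injective_iff_bijective.1 hf)
  have h1 : ∀ (n : ℕ) (s : S), ((φ ^ n) s).1 = y ^ n * s.1 * (a ^ n)⁻¹ := fun n => by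
    induction n with
    | zero => intro s; simp
    | succ n ih =>
      intro s
      rw [pow_succ, Equiv.Perm.mul_apply, ih]
      show y ^ n * (y * s.1 * a⁻¹) * (a ^ n)⁻¹ = _
      rw [pow_succ, pow_succ']
      group
  have h2 : φ ^ p ^ k = 1 := Equiv.ext fun s => Subtype.ext (by rw [h1, ha, hy]; simp)
  have h3 : Fintype.card S = Nat.card (E ⊓ MulAction.stabilizer Γ u : Subgroup Γ) := by
    rw [← Nat.card_eq_fintype_card]
    refine Nat.card_congr ⟨fun s => ⟨t⁻¹ * s.1, E.mul_mem (E.inv_mem ht) s.2.1, ?_⟩,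
      fun s => ⟨t * s.1, E.mul_mem ht s.2.1, ?_⟩, fun s => Subtype.ext (by simp), fun s => Subtype.ext (by simp)⟩
    · show (t⁻¹ * s.1) • u = u
      rw [mul_smul, s.2.2, inv_smul_eq_iff, htu]
    · rw [mul_smul, show s.1 • u = u from s.2.2, htu]
  obtain ⟨s, hs⟩ := Equiv.Perm.exists_fixed_point_of_prime (p := p) (n := k) (σ := φ) (by
    rw [h3]
    exact fun h => hE (h.trans (Subgroup.card_dvd_of_le inf_le_left))) h2
  refine ⟨s.1, s.2.1, s.2.2, ?_⟩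
  have h4 : y * s.1 * a⁻¹ = s.1 := congrArg Subtype.val hs
  rw [← mul_inv_eq_iff_eq_mul, h4]

/-- a power of an element of the coset `E a` is conjugate to `a` -/
theorem conj_pow (hE : ¬ p ∣ Nat.card E) (hn : ∀ e ∈ E, a * e * a⁻¹ ∈ E) (ha : a ^ p ^ k = 1) (hya : y * a⁻¹ ∈ E) :
    ∃ s ∈ E, ∃ m : ℕ, y ^ m * s = s * a := by
  have h1 : ∀ n : ℕ, y ^ n * (a ^ n)⁻¹ ∈ E := fun n => by
    induction n with
    | zero => simp
    | succ n ih =>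
      have e : y ^ (n + 1) * (a ^ (n + 1))⁻¹ = y * a⁻¹ * (a * (y ^ n * (a ^ n)⁻¹) * a⁻¹) := by
        rw [pow_succ', pow_succ']
        group
      exact e ▸ mul_mem hya (hn _ ih)
  have hco : (Nat.card E).Coprime (p ^ k) :=
    Nat.Coprime.pow_right k ((Nat.Prime.coprime_iff_not_dvd Fact.out).2 hE).symm
  obtain ⟨m, m1, m2⟩ := Nat.chineseRemainder hco 0 1
  obtain ⟨q, rfl⟩ := (Nat.modEq_zero_iff_dvd).1 m1
  have h2 : y ^ p ^ k ∈ E := by simpa [ha] using h1 (p ^ k)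
  have h3 : (y ^ (Nat.card E * q)) ^ p ^ k = 1 := by
    rw [← pow_mul, mul_comm, pow_mul, pow_mul]
    have h4 : (⟨_, h2⟩ : E) ^ Nat.card E = 1 := pow_card_eq_one'
    rw [show (y ^ p ^ k) ^ Nat.card E = 1 from congrArg Subtype.val h4, one_pow]
  have h4 : a ^ (Nat.card E * q) = a := by
    rw [pow_eq_pow_iff_modEq.2 (m2.of_dvd (orderOf_dvd_of_pow_eq_one ha)), pow_one]
  obtain ⟨s, s1, -, s2⟩ := fix3 (X := Unit) hE hn ha h3 (by simpa [h4] using h1 (Nat.card E * q)) (one_mem E)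
    (u := ()) (w := ()) rfl rfl rfl
  exact ⟨s, s1, _, s2⟩

end abs

variable {K : Type} [Group K] [Finite K] {p : ℕ} [Fact p.Prime] {M : Ideal AlgInt} {b : Set (IrrCharacter K)}
  {Q : Subgroup K} {θ : K → ℂ} {α y : MulAut K}

variable (Q θ) in
/-- the action on `Q` -/
def rs : LA Q θ →* MulAut Q where
  toFun γ := Q8.resAut γ.1 Q γ.2.1
  map_one' := rfl
  map_mul' _ _ := rfl

variable (Q θ) in
/-- the action of the inertia group on `Q` -/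
def ri : In Q θ →* MulAut Q := (rs Q θ).comp ((MulAut.conj : K →* MulAut K).subgroupComap (LA Q θ))

theorem ri_coe (t : In Q θ) (u : Q) : (ri Q θ t u : K) = t * u * (t : K)⁻¹ := rfl

theorem rs_coe (γ : LA Q θ) (u : Q) : (rs Q θ γ u : K) = γ.1 u := rfl

theorem card_ri : Nat.card (ri Q θ).range = (Ce Q).relIndex (In Q θ) := by
  rw [← Subgroup.index_ker, Subgroup.relIndex]
  congr 1
  ext t
  rw [MonoidHom.mem_ker, Subgroup.mem_subgroupOf, Q8.mem_ce]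
  refine ⟨fun h d hd => ?_, fun h => MulEquiv.ext fun d => Subtype.ext ?_⟩
  · have h1 : (t : K) * d * (t : K)⁻¹ = d := (ri_coe t ⟨d, hd⟩).symm.trans (by rw [h]; rfl)
    rw [← mul_inv_eq_iff_eq_mul.1 h1]
  · rw [ri_coe, ← h d d.2, mul_inv_cancel_right]
    rfl

theorem ndvd_ri (h : Can p M b Q θ) : ¬ p ∣ Nat.card (ri Q θ).range := by
  rw [card_ri]
  exact h.idx

theorem norm_ri (γ : LA Q θ) : ∀ e ∈ (ri Q θ).range, rs Q θ γ * e * (rs Q θ γ)⁻¹ ∈ (ri Q θ).range := by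
  rintro _ ⟨t, rfl⟩
  refine ⟨⟨γ.1 t, Cn.la_In γ.2 t.2⟩, ?_⟩
  rw [eq_mul_inv_iff_mul_eq]
  refine MulEquiv.ext fun u => Subtype.ext ?_
  show γ.1 t * γ.1 u * (γ.1 t)⁻¹ = γ.1 (t * u * (t : K)⁻¹)
  rw [map_mul, map_mul, map_inv]

theorem rs_pow (hα : α ∈ LA Q θ) (hp : PElt p α) : ∃ k : ℕ, rs Q θ ⟨α, hα⟩ ^ p ^ k = 1 := by
  obtain ⟨k, hk⟩ := hp
  refine ⟨k, ?_⟩
  rw [← map_pow, show (⟨α, hα⟩ : LA Q θ) ^ p ^ k = 1 from Subtype.ext (by
    rw [Subgroup.coe_pow, ← hk]; exact pow_orderOf_eq_one α), map_one]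

/-- the fixed points of an element of the coset of `α` are conjugate to fixed points of `α` -/
theorem move (h : Can p M b Q θ) (hα : α ∈ LA Q θ) (hp : PElt p α) (hy : y ∈ LA Q θ) (hi : y * α⁻¹ ∈ Inn K) :
    ∃ s ∈ In Q θ, ∀ u ∈ Q, y u = u → α (s⁻¹ * u * s) = s⁻¹ * u * s := by
  obtain ⟨k, hk⟩ := rs_pow hα hp
  obtain ⟨t, ht⟩ := hi
  have ht' : t ∈ In Q θ := show MulAut.conj t ∈ LA Q θ from ht ▸ mul_mem hy (inv_mem hα)
  obtain ⟨_, ⟨s, rfl⟩, m, hs⟩ := conj_pow (y := rs Q θ ⟨y, hy⟩) (ndvd_ri h) (norm_ri ⟨α, hα⟩) hk ⟨⟨t, ht'⟩, by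
    rw [← map_inv, ← map_mul]
    exact congrArg (rs Q θ) (Subtype.ext ht)⟩
  refine ⟨s, s.2, fun u hu h1 => ?_⟩
  have h2 : ∀ n : ℕ, (rs Q θ ⟨y, hy⟩ ^ n) ⟨u, hu⟩ = ⟨u, hu⟩ := fun n => by
    induction n with
    | zero => rfl
    | succ n ih => rw [pow_succ', MulAut.mul_apply, ih]; exact Subtype.ext h1
  have h3 := congrArg (fun f : MulAut Q => ((f (ri Q θ s⁻¹ ⟨u, hu⟩) : Q) : K)) hs
  simp only [MulAut.mul_apply] at h3
  rw [← MulAut.mul_apply _ (ri Q θ s), ← map_mul, mul_inv_cancel, map_one, MulAut.one_apply, h2, ri_coe, rs_coe,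
    ri_coe] at h3
  simp only [Subgroup.coe_inv, inv_inv] at h3
  rw [← mul_left_inj (s : K)⁻¹, ← mul_right_inj (s : K), ← mul_assoc, ← h3]
  group

/-- the hypothesis of CNT -/
def HC (Q : Subgroup K) (θ : K → ℂ) (α : MulAut K) : Prop :=
  ∀ t ∈ In Q θ, (∀ u ∈ Q, t * α u * t⁻¹ = α (t * u * t⁻¹)) → ∀ u ∈ Q, α u = u → t * u * t⁻¹ = u

theorem nofus (h : Can p M b Q θ) (hα : α ∈ LA Q θ) (hp : PElt p α) (H : HC Q θ α) {t u : K} (ht : t ∈ In Q θ)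
    (hu : u ∈ Q) (h1 : α u = u) (h2 : α (t * u * t⁻¹) = t * u * t⁻¹) : t * u * t⁻¹ = u := by
  obtain ⟨k, hk⟩ := rs_pow hα hp
  obtain ⟨_, ⟨s, rfl⟩, s1, s2⟩ := fix3 (X := Q) (ndvd_ri h) (norm_ri ⟨α, hα⟩) hk hk (by simp)
    (t := ri Q θ ⟨t, ht⟩) ⟨_, rfl⟩ (u := ⟨u, hu⟩) (w := ri Q θ ⟨t, ht⟩ ⟨u, hu⟩) (Subtype.ext h1) (Subtype.ext h2) rfl
  have h3 : (s : K) * u * (s : K)⁻¹ = t * u * t⁻¹ := congrArg Subtype.val s1
  rw [← h3]
  exact H s s.2 (fun v hv => (congrArg (fun f : MulAut Q => ((f ⟨v, hv⟩ : Q) : K)) s2).symm) u hu h1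

theorem nofus' (h : Can p M b Q θ) (hα : α ∈ LA Q θ) (hp : PElt p α) (H : HC Q θ α) (hy : y ∈ LA Q θ)
    (hi : y * α⁻¹ ∈ Inn K) {t u : K} (ht : t ∈ In Q θ) (hu : u ∈ Q) (h1 : y u = u)
    (h2 : y (t * u * t⁻¹) = t * u * t⁻¹) : t * u * t⁻¹ = u := by
  obtain ⟨s, hs, h3⟩ := move h hα hp hy hi
  have h4 : s⁻¹ * u * s ∈ Q := by simpa using ((inv_mem hs).1 u).2 hu
  have e : s⁻¹ * t * s * (s⁻¹ * u * s) * (s⁻¹ * t * s)⁻¹ = s⁻¹ * (t * u * t⁻¹) * s := by group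
  have h5 := nofus h hα hp H (mul_mem (mul_mem (inv_mem hs) ht) hs) h4 (h3 u hu h1) (by
    rw [e]
    exact h3 _ ((ht.1 u).2 hu) h2)
  rw [e] at h5
  exact mul_left_cancel (mul_right_cancel h5)

theorem card_move (h : Can p M b Q θ) (hα : α ∈ LA Q θ) (hp : PElt p α) (hy : y ∈ LA Q θ) (hi : y * α⁻¹ ∈ Inn K) :
    {u : K | u ∈ Q ∧ y u = u}.ncard ≤ {u : K | u ∈ Q ∧ α u = u}.ncard := by
  obtain ⟨s, hs, h3⟩ := move h hα hp hy hi
  exact Set.ncard_le_ncard_of_injOn (fun u => s⁻¹ * u * s)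
    (fun u hu => ⟨by simpa using ((inv_mem hs).1 u).2 hu.1, h3 u hu.1 hu.2⟩)
    (fun u _ v _ e => mul_left_cancel (mul_right_cancel e)) (Set.toFinite _)

end Cfsg.Agent.BH.V4
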