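import Cfsg.Agent.BH.V4.G
import Cfsg.Agent.H649.PIndexPair
import Cfsg.Agent.H650.StarAlg

/-!
# BH (S4524), box CNT: Brauer pairs above a normal subgroup of `p`-power index (helper97)
-/

set_option autoImplicit false
set_option linter.unusedSectionVars false

namespace Cfsg.Agent.BH.V4

open Cfsg Cfsg.Agent.TO Cfsg.Agent.H649 Cfsg.Agent.H651 Cfsg.Agent.Blocks.Local
open Cfsg.Agent.H644 (idem lam emb br IsCls IsInv coeff_emb_of_mem coeff_emb_of_notMem ext_coeff emb_injective isCls_idem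
  isInv_emb isUnion_of_isPBlock coeff_cj Blk blkAction)
open Cfsg.Agent.Blocks.Basic (isPBlock_nonempty isPBlock_eq_of_mem)
open Cfsg.Agent.H650 (Cz mem_Cz_iff)

variable {p : ℕ} [Fact p.Prime] {M : Ideal AlgInt}

section K

variable {K : Type} [Group K] [Finite K] {b : Set (IrrCharacter K)} {Q : Subgroup K} {θ : K → ℂ}

theorem idx_eq_of_tst [M.IsPrime] {a a' : BrauerPairIdx K} (h1 : a.1 = a'.1) (h2 : IsPBlock M a.2) (h3 : IsPBlock M a'.2)
    {φ : K → ℂ} (h4 : Tst a φ) (h5 : Tst a' φ) : a = a' := by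
  obtain ⟨R, f⟩ := a
  obtain ⟨R', f'⟩ := a'
  obtain rfl : R = R' := h1
  obtain ⟨ξ, k1, k2⟩ := h4
  obtain ⟨ξ', k3, k4⟩ := h5
  obtain rfl : ξ = ξ' := Subtype.ext (funext fun k => (k2 k).symm.trans (k4 k))
  rw [show f = f' from isPBlock_eq_of_mem h2 h3 k1 k3]

theorem idx_of_LA (h : Can p M b Q θ) {α : MulAut K} (hα : α ∈ LA Q θ) :
    idxMap α ⟨Q, Can.root M Q θ⟩ = ⟨Q, Can.root M Q θ⟩ := by
  have := h.prime
  refine idx_eq_of_tst (M := M) (Cn.map_eq_of_iff hα.1) (isPBlock_blkMap h.he) h.he (φ := θ) ?_ h.tst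
  rw [idxMap_test, show (fun k => θ (α k)) = θ from funext hα.2]
  exact h.tst

/-- an automorphism which fixes a pair of `b` is local up to inner automorphisms -/
theorem pk (h : Can p M b Q θ) {a : BrauerPairIdx K} {n : K} (hn : LEIdx p M (conjIdx n a) ⟨Q, Can.root M Q θ⟩)
    {β : MulAut K} (hβ : idxMap β a = a) : ∃ c : K, (∀ u ∈ a.1, c * (n * u * n⁻¹) * c⁻¹ = n * u * n⁻¹) ∧
      MulAut.conj c * (MulAut.conj n * β * (MulAut.conj n)⁻¹) ∈ LA Q θ := by
  set γ := MulAut.conj n * β * (MulAut.conj n)⁻¹ with hγ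
  have h1 : idxMap γ (conjIdx n a) = conjIdx n a := by
    conv_rhs => rw [← hβ]
    rw [conjIdx, conjIdx, idxMap_idxMap, idxMap_idxMap]
    congr 1
    exact MulEquiv.ext fun g => by simp [hγ, mul_assoc]
  have h2 : ∀ u ∈ a.1, n * u * n⁻¹ ∈ (conjIdx n a).1 := fun u hu => ⟨u, hu, rfl⟩
  generalize conjIdx n a = a₁ at hn h1 h2
  obtain ⟨R, f⟩ := a₁
  have hRQ : R ≤ Q := hn.le
  have hQC : Q ≤ Ce R := fun y hy => Subgroup.mem_centralizer_iff.2 fun q hq => h.comm q (hRQ hq) y hy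
  have h3 : R.map γ.toMonoidHom = R := congrArg Sigma.fst h1
  have h4 : Q.map γ.toMonoidHom ≤ Ce R := by
    conv_rhs => rw [← h3, Ce, centralizer_map]
    exact Subgroup.map_mono hQC
  have h5 := leIdx_idxMap γ hn
  rw [h1] at h5
  obtain ⟨c, hc, hce⟩ := exists_conj_of_centralizes h.hM h.hmax hQC hn h4 h5
    (Nat.card_congr (Q.equivMapOfInjective _ γ.injective).toEquiv).symm ((isBrauerPair_map_iff γ Q _).2 h.hmax.1.1)
  have h6 : idxMap (MulAut.conj c * γ) ⟨Q, Can.root M Q θ⟩ = ⟨Q, Can.root M Q θ⟩ :=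
    (idxMap_idxMap γ (MulAut.conj c) _).symm.trans hce
  obtain ⟨h7, h8⟩ := h.of_idx h h6
  refine ⟨c, fun u hu => ?_, Cn.iff_of_map_eq h7, h8⟩
  rw [← Subgroup.mem_centralizer_iff.1 hc _ (h2 u hu), mul_inv_cancel_right]

end K

variable {G : Type} [Group G] [Finite G] [M.IsPrime]

/-- a stable block below an invariant element with nonzero Brauer image -/
theorem fixblk (hM : IsPModular p M) {P L : Subgroup G} (hP : IsPGroup p P) (hPL : P ≤ Subgroup.normalizer (L : Set G))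
    {ε : MonoidAlgebra (ResField M) G} (hε : IsInv P ε) (h : br P ε ≠ 0) :
    ∃ c : Set (IrrCharacter L), IsPBlock M c ∧ IsInv P (emb L (idem M c)) ∧ ε * emb L (idem M c) ≠ 0 := by
  classical
  have := charP_resField hM
  have := Fintype.ofFinite (Blk M L)
  let act0 := blkAction M L
  let act : MulAction P (Blk M L) := MulAction.compHom _ (Subgroup.inclusion hPL)
  have hsmul : ∀ (u : P) (B : Blk M L), emb L (idem M (u • B).1) = H644.cj (u : G) (emb L (idem M B.1)) := fun u B =>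
    H644.emb_idem_irrMap (u : G) L L (H644.mem_iff_conj_mem_of_mem_normalizer (hPL u.2)) B.1
  obtain ⟨a, ha⟩ := Cfsg.Agent.Blocks.OrbitSum.sum_eq_sum_fixed_add_smul hP
    (fun B : Blk M L => br P (ε * emb L (idem M B.1))) fun u B => by
      rw [hsmul, ← H644.br_cj u.2 (ε * emb L (idem M B.1)), map_mul (H644.cj (u : G)), H644.isInv_iff_cj.1 hε u u.2]
  rw [← map_sum, ← Finset.mul_sum, ← map_sum, H644.sum_idem_eq_one hM, map_one, mul_one,
    ← Nat.cast_smul_eq_nsmul (ResField M), CharP.cast_eq_zero, zero_smul, add_zero] at ha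
  obtain ⟨B, hB, hFB⟩ := Finset.exists_ne_zero_of_sum_ne_zero (ha ▸ h)
  have hfix : ∀ u : P, u • B = B := (Finset.mem_filter.1 hB).2
  refine ⟨B.1, B.2, H644.isInv_iff_cj.2 fun u hu => ?_, fun h0 => hFB (by rw [h0, map_zero])⟩
  rw [← hsmul ⟨u, hu⟩ B, hfix ⟨u, hu⟩]

variable {N : Subgroup G} [N.Normal]

variable (M) in
/-- the idempotent of a pair of `N` -/
noncomputable def eps (a : BrauerPairIdx N) : MonoidAlgebra (ResField M) G := emb N (emb (Ce a.1) (idem M a.2))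

theorem eps_map (u : G) (a : BrauerPairIdx N) :
    eps M (idxMap (MulAut.conjNormal u : MulAut N) a) = H644.cj u (eps M a) := by
  refine ext_coeff fun g => ?_
  rw [coeff_cj, eps, eps]
  by_cases hg : g ∈ N
  · have h1 : u⁻¹ * g * u ∈ N := by simpa using ‹N.Normal›.conj_mem g hg u⁻¹
    rw [coeff_emb_of_mem _ hg, coeff_emb_of_mem _ h1, ← H644.toK_subgroupBlockCoeff, ← H644.toK_subgroupBlockCoeff,
      H644.coeff_toK, H644.coeff_toK, ← subgroupBlockCoeff_map (MulAut.conjNormal u : MulAut N) a.1 a.2]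
    congr 2
    exact Subtype.ext (by simp [mul_assoc])
  · rw [coeff_emb_of_notMem _ hg, coeff_emb_of_notMem _ fun h1 => hg (by simpa [mul_assoc] using ‹N.Normal›.conj_mem _ h1 u)]

theorem eps_inj (hM : IsPModular p M) {a a' : BrauerPairIdx N} (h1 : a.1 = a'.1) (h2 : IsPBlock M a.2)
    (h3 : IsPBlock M a'.2) (h : eps M a = eps M a') : a = a' := by
  obtain ⟨R, f⟩ := a
  obtain ⟨R', f'⟩ := a'
  obtain rfl : R = R' := h1
  rw [show f = f' from H644.idem_injective hM (isUnion_of_isPBlock h2) (isUnion_of_isPBlock h3)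
    (emb_injective _ (emb_injective _ h))]

theorem map_cn {T : Subgroup G} {g : G} (hg : g ∈ Subgroup.normalizer (T : Set G)) :
    (T.subgroupOf N).map (MulAut.conjNormal g : MulAut N).toMonoidHom = T.subgroupOf N :=
  Cn.map_eq_of_iff fun x => by
    rw [Subgroup.mem_subgroupOf, Subgroup.mem_subgroupOf, MulAut.conjNormal_apply]
    exact (Subgroup.mem_normalizer_iff.1 hg x).symm

variable {b : Set (IrrCharacter N)} {B : Set (IrrCharacter G)}

/-- the pair of `N` below a pair of `G` -/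
theorem key (hM : IsPModular p M) (hb : IsPBlock M b) (hBc : ∀ g : G, blockCoeff B g = subgroupBlockCoeff N b g)
    {T : Subgroup G} {h : Set (IrrCharacter (Ce T))} (hT : IsBrauerPairOf p M B T h) :
    ∃ f : Set (IrrCharacter (Ce (T.subgroupOf N))), IsBrauerPairOf p M b (T.subgroupOf N) f ∧
      (∀ u ∈ T, idxMap (MulAut.conjNormal u : MulAut N) ⟨_, f⟩ = ⟨_, f⟩) ∧
      ∀ v ∈ T, T ≤ Cz v → N ⊔ Subgroup.zpowers v = ⊤ → ∀ g : G, conjIdx g ⟨T, h⟩ = ⟨T, h⟩ →
        idxMap (MulAut.conjNormal g : MulAut N) ⟨_, f⟩ = ⟨_, f⟩ := by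
  have hB := hT.2.1
  set R' : Subgroup N := T.subgroupOf N with hR'
  have hmap : R'.map N.subtype = T ⊓ N := Subgroup.subgroupOf_map_subtype T N
  have hRT : R'.map N.subtype ≤ T := hmap ▸ inf_le_left
  have hR'p : IsPGroup p R' := hT.1.1.comap_of_injective N.subtype (Subgroup.subtype_injective N)
  obtain ⟨FR, hFR, -⟩ := H644.existsUnique_subpairLE hM hT.1 hRT
  have hFRp := SubpairLE.isBrauerPair hFR hT.1
  have hFRB : IsBrauerPairOf p M B (R'.map N.subtype) FR := (H644.isBrauerPairOf_iff_of_subpairLE hM hFR).1 hT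
  have nN : ∀ x : G, N.map (MulAut.conj x).toMonoidHom = N := fun x =>
    (mem_normalizer_iff_map_conj N x).1 (by rw [Subgroup.normalizer_eq_top]; trivial)
  have nR : ∀ x ∈ Subgroup.normalizer (T : Set G), x ∈ Subgroup.normalizer ((R'.map N.subtype : Subgroup G) : Set G) :=
    fun x hx => by
      rw [mem_normalizer_iff_map_conj, hmap, Subgroup.map_inf _ _ _ (MulAut.conj x).injective,
        (mem_normalizer_iff_map_conj T x).1 hx, nN]
  set C : Subgroup G := Ce (R'.map N.subtype) with hC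
  have nL : ∀ x ∈ Subgroup.normalizer (T : Set G), x ∈ Subgroup.normalizer ((C ⊓ N : Subgroup G) : Set G) :=
    fun x hx => by
      rw [mem_normalizer_iff_map_conj, Subgroup.map_inf _ _ _ (MulAut.conj x).injective,
        (mem_normalizer_iff_map_conj C x).1 (mem_normalizer_centralizer (nR x hx)), nN]
  have hnor := normal_inf_subgroupOf N C
  obtain ⟨-, -, -, -, hinv, hlam⟩ := (H644.isNormalSubpair_iff hM).1
    (H644.isNormalSubpair_of_subpairLE hM hT.1 hFR fun x hx => nR x (Subgroup.le_normalizer hx))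
  obtain ⟨ξ, hξ⟩ := isPBlock_nonempty hT.1.2
  obtain ⟨c, hc, hci, hcov⟩ := fixblk hM hT.1.1 (fun x hx => nL x (Subgroup.le_normalizer hx)) hinv fun h0 => by
    have h1 := hlam ξ hξ
    rw [h0, map_zero] at h1
    exact zero_ne_one h1
  have hf : IsPBlock M (blkMap (jIso R').symm c) := isPBlock_blkMap hc
  have hjf : blkMap (jIso R') (blkMap (jIso R').symm c) = c := blkMap_blkMap_symm _ c
  have he : eps M (⟨R', blkMap (jIso R').symm c⟩ : BrauerPairIdx N) = emb (C ⊓ N) (idem M c) := by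
    rw [eps, emb_emb_jIso, hjf]
  have fin : ∀ g ∈ Subgroup.normalizer (T : Set G), H644.cj g (emb (C ⊓ N) (idem M c)) = emb (C ⊓ N) (idem M c) →
      idxMap (MulAut.conjNormal g : MulAut N) ⟨R', blkMap (jIso R').symm c⟩ = ⟨R', blkMap (jIso R').symm c⟩ :=
    fun g hg h1 => eps_inj hM (map_cn hg) (isPBlock_blkMap hf) hf (by rw [eps_map, he, h1])
  refine ⟨_, (isBrauerPairOf_iff_of_coversIn hM hb hB hBc hR'p hf hFRp.2 (by rw [hjf]; exact hcov)).1 hFRB,
    fun u hu => fin u (Subgroup.le_normalizer hu) (H644.isInv_iff_cj.1 hci u hu), fun v hv hTv hg g hx => ?_⟩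
  have hgT := ((conjIdx_eq_iff hT.1.2 g).1 hx).1
  refine fin g hgT ?_
  obtain ⟨-, hxs⟩ := (conjIdx_eq_iff hFRp.2 g).1 (conjIdx_eq_of_le hM (a := ⟨_, FR⟩) (b := ⟨T, h⟩) hT.1 hFR hx
    ((mem_normalizer_iff_map_conj _ g).1 (nR g hgT)))
  have h1 := H644.emb_idem_irrMap (M := M) g (C ⊓ N) (C ⊓ N) (H644.mem_iff_conj_mem_of_mem_normalizer (nL g hgT)) c
  obtain ⟨y, hyC, hy⟩ := CoversIn.exists_cj hM inf_le_left hnor hFRp.2 hc (H644.isPBlock_irrMap hc) hcov (by
    rw [CoversIn, h1, ← ((H644.stabilizesBlock_iff hM hFRp.2 g).1 hxs).2, ← map_mul]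
    exact fun h0 => hcov ((map_eq_zero_iff _ (H644.cj g).injective).1 h0))
  rw [← h1, hy]
  obtain ⟨n, hn, w, hw, rfl⟩ := Subgroup.mem_sup_of_normal_left.1 (hg.ge (Subgroup.mem_top y))
  have hwC : w ∈ C := Subgroup.mem_centralizer_iff.2 fun r hr =>
    (Subgroup.mem_centralizer_iff.1 (hTv (hRT hr)) w hw).symm
  rw [H644.cj_mul_apply, H644.isInv_iff_cj.1 hci w (Subgroup.zpowers_le.2 hv hw)]
  exact H644.isInv_iff_cj.1 (isInv_emb (isCls_idem c)) n ⟨(mul_mem_cancel_right hwC).1 hyC, hn⟩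

theorem inn_of {v x : G} (hv : v * x⁻¹ ∈ N) (c n : N) :
    MulAut.conj c * (MulAut.conj n * MulAut.conjNormal v * (MulAut.conj n)⁻¹) * (MulAut.conjNormal x)⁻¹ ∈ Inn N :=
  ⟨c * n * MulAut.conjNormal v n⁻¹ * ⟨v * x⁻¹, hv⟩, MulEquiv.ext fun g => Subtype.ext (by
    rw [← map_inv, ← map_inv]
    simp [mul_assoc])⟩

variable {Q : Subgroup N} {θ : N → ℂ} {x v : G}

/-- the blocks of the subsections in the generating coset are nilpotent -/
theorem nil (hC : Can p M b Q θ) (hN : ∃ k : ℕ, N.index = p ^ k)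
    (hBc : ∀ g : G, blockCoeff B g = subgroupBlockCoeff N b g) (hx : MulAut.conjNormal x ∈ LA Q θ)
    (hp : PElt p (MulAut.conjNormal x : MulAut N)) (H : HC Q θ (MulAut.conjNormal x)) (hg : N ⊔ Subgroup.zpowers x = ⊤)
    (hv : v * x⁻¹ ∈ N) {f : Set (IrrCharacter (Cz v))} (hf : IsBrauerPairOf p M B (Subgroup.zpowers v) f) :
    IsNilpotentBlock p M f := by
  have hM := hC.hM
  refine isNilpotentBlock_iff.2 ⟨hf.1.2, fun R h hR g hgf hreg => ?_⟩
  have hT := H644.isBrauerPairOf_of_isNormalSubpair hM ((isNormalSubpair_locBlk_iff hf.1.1 hf.1.2 hR.1.1).2 hR) hf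
  have hg' := conjIdx_locBlk hR.1.2 hgf
  have hvT : v ∈ locSub (Subgroup.zpowers v) R := le_locSub _ _ (Subgroup.mem_zpowers v)
  have hTv : locSub (Subgroup.zpowers v) R ≤ Cz v :=
    sup_le (Subgroup.zpowers_le.2 (mem_Cz_iff.2 (Commute.refl v))) (Subgroup.map_subtype_le R)
  rw [← mem_centralizer_locSub_iff]
  have hreg' : IsPRegular p (g : G) := by rwa [IsPRegular, Subgroup.orderOf_coe]
  generalize locBlk (Subgroup.zpowers v) R h = h' at hT hg'
  revert h'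
  generalize locSub (Subgroup.zpowers v) R = T at hvT hTv ⊢
  intro h' hT hg'
  obtain ⟨f₀, k1, k2, k3⟩ := key hM hC.hb hBc hT
  have hgN : (g : G) ∈ N := mem_of_isPRegular N hN hreg'
  have hgT := ((conjIdx_eq_iff hT.1.2 (g : G)).1 hg').1
  obtain ⟨n, hn⟩ := H650.exists_conj_leIdx hM (a := ⟨Q, Can.root M Q θ⟩) hC.hmax k1
  obtain ⟨c₁, a1, a2⟩ := pk hC hn (k2 v hvT)
  obtain ⟨c₂, a3, a4⟩ := pk hC hn (k3 v hvT hTv (eq_top_iff.2 (hg.ge.trans (sup_le le_sup_left (Subgroup.zpowers_le.2 (by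
    simpa using Subgroup.mul_mem_sup (inv_mem hv) (Subgroup.mem_zpowers v)))))) g hg')
  have a5 : c₂ * (n * ⟨g, hgN⟩ * n⁻¹) ∈ In Q θ := by
    show MulAut.conj _ ∈ LA Q θ
    rw [map_mul, map_mul, map_mul, map_inv]
    exact a4
  have a6 : ∀ u ∈ T.subgroupOf N, (MulAut.conj c₁ * (MulAut.conj n * MulAut.conjNormal v * (MulAut.conj n)⁻¹) : MulAut N)
      (n * u * n⁻¹) = n * u * n⁻¹ := fun u hu => by
    have e : (MulAut.conjNormal v : MulAut N) u = u := Subtype.ext (by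
      rw [MulAut.conjNormal_apply, show v * u = u * v from (mem_Cz_iff.1 (hTv hu)).eq, mul_inv_cancel_right])
    conv_rhs => rw [← a1 u hu]
    simp [mul_assoc, e]
  refine mem_centralizer_of_inf hT.1.1 hgN hgT hreg' fun r hr => ?_
  have a7 : (⟨g, hgN⟩ * ⟨r, hr.2⟩ * ⟨g, hgN⟩⁻¹ : N) ∈ T.subgroupOf N := (Subgroup.mem_normalizer_iff.1 hgT r).1 hr.1
  have a8 : c₂ * (n * ⟨g, hgN⟩ * n⁻¹) * (n * ⟨r, hr.2⟩ * n⁻¹) * (c₂ * (n * ⟨g, hgN⟩ * n⁻¹))⁻¹ =
      n * (⟨g, hgN⟩ * ⟨r, hr.2⟩ * ⟨g, hgN⟩⁻¹) * n⁻¹ := by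
    rw [← a3 _ a7]
    group
  have a9 := nofus' hC hx hp H a2 (inn_of hv c₁ n) a5 (u := n * ⟨r, hr.2⟩ * n⁻¹) (hn.le ⟨_, hr.1, rfl⟩) (a6 _ hr.1)
    (by rw [a8]; exact a6 _ a7)
  rw [a8] at a9
  exact (mul_inv_eq_iff_eq_mul.1 (congrArg Subtype.val (mul_left_cancel (mul_right_cancel a9)))).symm

/-- the part in `N` of a pair of `G` -/
theorem low (hC : Can p M b Q θ) (hBc : ∀ g : G, blockCoeff B g = subgroupBlockCoeff N b g)
    (hx : MulAut.conjNormal x ∈ LA Q θ) (hp : PElt p (MulAut.conjNormal x : MulAut N)) {T : Subgroup G}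
    {h : Set (IrrCharacter (Ce T))} (hT : IsBrauerPairOf p M B T h) (hvT : v ∈ T) (hv : v * x⁻¹ ∈ N) :
    (∀ r ∈ T.subgroupOf N, ∀ s ∈ T.subgroupOf N, r * s = s * r) ∧
      {u : N | u ∈ T.subgroupOf N ∧ (MulAut.conjNormal v : MulAut N) u = u}.ncard ≤
        {u : N | u ∈ Q ∧ (MulAut.conjNormal x : MulAut N) u = u}.ncard := by
  obtain ⟨f₀, k1, k2, -⟩ := key hC.hM hC.hb hBc hT
  obtain ⟨n, hn⟩ := H650.exists_conj_leIdx hC.hM (a := ⟨Q, Can.root M Q θ⟩) hC.hmax k1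
  obtain ⟨c, a1, a2⟩ := pk hC hn (k2 v hvT)
  have a3 : ∀ u ∈ T.subgroupOf N, n * u * n⁻¹ ∈ Q := fun u hu => hn.le ⟨u, hu, rfl⟩
  refine ⟨fun r hr s hs => ?_, le_trans ?_ (card_move hC hx hp a2 (inn_of hv c n))⟩
  · exact (MulAut.conj n).injective (by rw [map_mul, map_mul]; exact hC.comm _ (a3 r hr) _ (a3 s hs))
  · refine Set.ncard_le_ncard_of_injOn (fun u => n * u * n⁻¹) (fun u hu => ⟨a3 u hu.1, ?_⟩)
      (fun u _ w _ e => mul_left_cancel (mul_right_cancel e)) (Set.toFinite _)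
    conv_rhs => rw [← a1 u hu.1]
    simp [mul_assoc, hu.2]

end Cfsg.Agent.BH.V4
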